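import Mathlib
import Groth.Prelude.Def_EGA41
import Groth.Agent.PBasisLib.Fields

/-! Admissible subfields for the imperfection module. -/

set_option autoImplicit false
universe u

open TensorProduct KaehlerDifferential

namespace Groth.Agent.AdmissLib

variable (p : ℕ) [Fact p.Prime] {k₀ K : Type u} [Field k₀] [Field K] [Algebra k₀ K] [CharP K p]

variable (k₀ K) in
abbrev pField : IntermediateField k₀ K := IntermediateField.adjoin k₀ (Set.range fun y : K => y ^ p)

def IndepOn (M : IntermediateField k₀ K) {κ : Type*} (v : κ → K) (s : Finset κ) : Prop :=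
  ∀ c : κ → K, (∀ a ∈ s, c a ∈ M) → ∑ a ∈ s, c a * v a = 0 → ∀ a ∈ s, c a = 0

theorem exists_indepOn {ι : Type*} [Preorder ι] [IsDirected ι (· ≤ ·)] [Nonempty ι]
    (M : ι → IntermediateField k₀ K) (hM : Antitone M) {κ : Type*} (v : κ → K) (s : Finset κ)
    (h : IndepOn (⨅ i, M i) v s) : ∃ i, IndepOn (M i) v s := by
  classical
  induction s using Finset.induction_on with
  | empty => exact ⟨Classical.arbitrary ι, fun c _ _ a ha => absurd ha (Finset.notMem_empty a)⟩
  | @insert a s has ih =>
    have hs : IndepOn (⨅ i, M i) v s := fun c hc hsum b hb => by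
      have := h (fun x => if x = a then 0 else c x) ?_ ?_ b (Finset.mem_insert_of_mem hb)
      · simpa [show b ≠ a from fun e => has (e ▸ hb)] using this
      · intro x hx
        split_ifs with e
        · exact zero_mem _
        · exact hc x (Finset.mem_of_mem_insert_of_ne hx e)
      · rw [Finset.sum_insert has, if_pos rfl, zero_mul, zero_add, ← hsum]
        exact Finset.sum_congr rfl fun x hx => by rw [if_neg fun e : x = a => has (e ▸ hx)]
    obtain ⟨i₀, hi₀⟩ := ih hs
    by_contra hcon
    have hd : ∀ j, i₀ ≤ j → ∃ d : κ → K, (∀ b ∈ s, d b ∈ M j) ∧ v a + ∑ b ∈ s, d b * v b = 0 := by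
      intro j hj
      have hn : ¬ IndepOn (M j) v (insert a s) := fun hh => hcon ⟨j, hh⟩
      simp only [IndepOn, not_forall] at hn
      obtain ⟨c, hc, hsum, b, hb, hne⟩ := hn
      rw [Finset.sum_insert has] at hsum
      have hca : c a ≠ 0 := by
        intro hca
        rw [hca, zero_mul, zero_add] at hsum
        rcases Finset.mem_insert.1 hb with rfl | hb'
        · exact hne hca
        · exact hne (hi₀ c (fun x hx => hM hj (hc x (Finset.mem_insert_of_mem hx))) hsum b hb')
      refine ⟨fun x => c x / c a, fun x hx => div_mem (hc x (Finset.mem_insert_of_mem hx))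
        (hc a (Finset.mem_insert_self a s)), ?_⟩
      have e : ∑ x ∈ s, c x / c a * v x = (∑ x ∈ s, c x * v x) / c a := by
        rw [Finset.sum_div]; exact Finset.sum_congr rfl fun x _ => by ring
      rw [e]
      field_simp
      linear_combination hsum
    choose d hd1 hd2 using hd
    have heq : ∀ j (hj : i₀ ≤ j), ∀ b ∈ s, d j hj b = d i₀ le_rfl b := fun j hj b hb => by
      have := hi₀ (fun x => d j hj x - d i₀ le_rfl x)
        (fun x hx => sub_mem (hM hj (hd1 j hj x hx)) (hd1 i₀ le_rfl x hx)) ?_ b hb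
      · exact sub_eq_zero.1 this
      · simp only [sub_mul, Finset.sum_sub_distrib]
        linear_combination hd2 j hj - hd2 i₀ le_rfl
    have hmem : ∀ b ∈ s, d i₀ le_rfl b ∈ ⨅ i, M i := fun b hb => by
      rw [← SetLike.mem_coe, IntermediateField.coe_iInf]
      refine Set.mem_iInter.2 fun i => ?_
      obtain ⟨j, hj, hj'⟩ := exists_ge_ge i i₀
      exact hM hj (heq j hj' b hb ▸ hd1 j hj' b hb)
    have := h (fun x => if x = a then 1 else d i₀ le_rfl x) ?_ ?_ a (Finset.mem_insert_self a s)
    · simp at this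
    · intro x hx
      split_ifs with e
      · exact one_mem _
      · exact hmem x (Finset.mem_of_mem_insert_of_ne hx e)
    · rw [Finset.sum_insert has, if_pos rfl, one_mul, ← hd2 i₀ le_rfl]
      exact congrArg _ (Finset.sum_congr rfl fun x hx => by rw [if_neg fun e : x = a => has (e ▸ hx)])

omit [CharP K p] in
theorem mem_pPower_iff {A : Type u} [Field A] [Algebra k₀ A] [Algebra A K] [IsScalarTower k₀ A K]
    (F : IntermediateField k₀ K) (hF : ∀ x, x ∈ F ↔ x ∈ Set.range (algebraMap A K)) (x : K) :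
    x ∈ EGA41.pPowerSubalgebra p A K ↔ x ∈ F ⊔ pField p k₀ K := by
  constructor
  · intro hx
    induction hx using Algebra.adjoin_induction with
    | mem y hy => exact (le_sup_right : _ ≤ F ⊔ pField p k₀ K) (IntermediateField.subset_adjoin _ _ hy)
    | algebraMap a => exact (le_sup_left : _ ≤ F ⊔ pField p k₀ K) ((hF _).2 ⟨a, rfl⟩)
    | add _ _ _ _ ha hb => exact add_mem ha hb
    | mul _ _ _ _ ha hb => exact mul_mem ha hb
  · have hp : p.Prime := Fact.out
    have hinv : ∀ b ∈ EGA41.pPowerSubalgebra p A K, b⁻¹ ∈ EGA41.pPowerSubalgebra p A K := fun b hb => by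
      rcases eq_or_ne b 0 with rfl | h0
      · rw [inv_zero]; exact zero_mem _
      · obtain ⟨m, hm⟩ : ∃ m, p = m + 1 := ⟨p - 1, by have := hp.one_lt; omega⟩
        rw [show b⁻¹ = b ^ m * (b⁻¹) ^ p by rw [hm, inv_pow, pow_succ]; field_simp]
        exact mul_mem (pow_mem hb m) (Algebra.subset_adjoin ⟨b⁻¹, rfl⟩)
    let N : IntermediateField k₀ K :=
      ((EGA41.pPowerSubalgebra p A K).restrictScalars k₀).toIntermediateField hinv
    have hle : F ⊔ pField p k₀ K ≤ N := by
      refine sup_le (fun y hy => ?_) (IntermediateField.adjoin_le_iff.2 fun y hy => Algebra.subset_adjoin hy)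
      obtain ⟨a, rfl⟩ := (hF y).1 hy
      exact (EGA41.pPowerSubalgebra p A K).algebraMap_mem a
    exact fun hx => hle hx

omit [CharP K p] in
theorem mem_pPower_self (x : K) : x ∈ EGA41.pPowerSubalgebra p k₀ K ↔ x ∈ pField p k₀ K := by
  rw [mem_pPower_iff p (⊥ : IntermediateField k₀ K) (fun _ => IntermediateField.mem_bot), bot_sup_eq]

omit [CharP K p] in
theorem mem_pPower_field (F : IntermediateField k₀ K) (x : K) :
    x ∈ EGA41.pPowerSubalgebra p F K ↔ x ∈ F ⊔ pField p k₀ K :=
  mem_pPower_iff p F (fun y => ⟨fun hy => ⟨⟨y, hy⟩, rfl⟩, by rintro ⟨⟨z, hz⟩, rfl⟩; exact hz⟩) x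

section Base

variable {L : Type u} [Field L] [Algebra K L]

omit [Fact p.Prime] [CharP K p] in
/-- elements supported on differentials which stay independent are not killed. -/
theorem eq_zero_of_indep {A : Type u} [Field A] [Algebra k₀ A] [Algebra A K] [IsScalarTower k₀ A K]
    {κ : Type u} [Fintype κ] (x : κ → K)
    (hli : LinearIndependent K fun s => D A K (x s))
    {ω : L ⊗[K] Ω[K⁄k₀]} (hω : ω ∈ Submodule.span L (Set.range fun s => (1 : L) ⊗ₜ[K] D k₀ K (x s)))
    (h0 : ((map k₀ A K K).restrictScalars K).baseChange L ω = 0) : ω = 0 := by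
  classical
  obtain ⟨c, rfl⟩ := (Submodule.mem_span_range_iff_exists_fun L).1 hω
  have hi : LinearMap.ker (Fintype.linearCombination K (fun s => D A K (x s))) = ⊥ := by
    rw [LinearMap.ker_eq_bot]
    intro a b hab
    have := Fintype.linearIndependent_iff.1 hli (a - b) (by
      simpa [Fintype.linearCombination_apply, sub_smul, Finset.sum_sub_distrib, sub_eq_zero] using hab)
    exact funext fun i => sub_eq_zero.1 (this i)
  obtain ⟨r, hr⟩ := LinearMap.exists_leftInverse_of_injective _ hi
  refine Finset.sum_eq_zero fun t _ => ?_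
  have ht : c t = 0 := by
    let φ : Ω[K⁄A] →ₗ[K] K := LinearMap.proj t ∘ₗ r
    have hφ : ∀ s, φ (D A K (x s)) = if s = t then 1 else 0 := fun s => by
      have := LinearMap.congr_fun hr (Pi.single s 1)
      simp [Fintype.linearCombination_apply_single] at this
      simp [φ, this, Pi.single_apply, eq_comm]
    have := congrArg (fun z => TensorProduct.AlgebraTensorModule.rid K L L (φ.baseChange L z)) h0
    simp only [map_zero, map_sum, map_smul, LinearMap.baseChange_tmul, LinearMap.restrictScalars_apply,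
      map_D, Algebra.algebraMap_self, RingHom.id_apply, hφ, TensorProduct.AlgebraTensorModule.rid_tmul] at this
    simpa using this
  rw [ht, zero_smul]

theorem exists_finite_support {T : Set K} (hT : EGA41.IsPBasis p k₀ (Subtype.val : T → K))
    (V : Submodule L (L ⊗[K] Ω[K⁄k₀])) (hV : V.FG) :
    ∃ S : Finset T, V ≤ Submodule.span L (Set.range fun s : S => (1 : L) ⊗ₜ[K] D k₀ K ((s : T) : K)) := by
  classical
  obtain ⟨b, hb⟩ := PBasisLib.exists_basis_D p hT
  let bL := Algebra.TensorProduct.basis L b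
  obtain ⟨G, rfl⟩ := hV
  refine ⟨G.biUnion fun ω => (bL.repr ω).support, Submodule.span_le.2 fun ω hω => ?_⟩
  rw [SetLike.mem_coe, ← bL.linearCombination_repr ω, Finsupp.linearCombination_apply]
  refine Submodule.sum_mem _ fun t ht => Submodule.smul_mem _ _ (Submodule.subset_span
    ⟨⟨t, Finset.mem_biUnion.2 ⟨ω, hω, ht⟩⟩, ?_⟩)
  simp [bL, hb]

variable {ι : Type u} [Preorder ι] [IsDirected ι (· ≤ ·)] [Nonempty ι] (k : ι → IntermediateField k₀ K)

theorem exists_admissible (hk : Antitone k)
    (h : (⨅ i, k i ⊔ pField p k₀ K) = pField p k₀ K) (V : Submodule L (L ⊗[K] Ω[K⁄k₀])) (hV : V.FG) :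
    ∃ i, ∀ ω ∈ V, ((map k₀ (k i) K K).restrictScalars K).baseChange L ω = 0 → ω = 0 := by
  classical
  obtain ⟨T, -, -, hT⟩ := PBasisLib.exists_pBasis_between p (A := k₀) Set.univ ∅ (Set.subset_univ _)
    (PBasisLib.isPGenerating_univ (A := k₀) (K := K) p) (PBasisLib.setIndep_empty (A := k₀) (K := K) p)
  obtain ⟨S, hS⟩ := exists_finite_support p hT V hV
  let x : S → K := fun s => ((s : T) : K)
  have hx : EGA41.IsPIndependent p k₀ x :=
    PBasisLib.isPIndependent_comp (A := k₀) p hT.1 (f := fun s : S => (s : T)) Subtype.val_injective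
  haveI : Finite {e : S →₀ ℕ // ∀ i, e i < p} :=
    Finite.of_injective (fun e i => (⟨e.1 i, e.2 i⟩ : Fin p)) fun e e' he =>
      Subtype.ext (Finsupp.ext fun i => congrArg Fin.val (congrFun he i))
  letI := Fintype.ofFinite {e : S →₀ ℕ // ∀ i, e i < p}
  let v : {e : S →₀ ℕ // ∀ i, e i < p} → K := fun e => EGA41.pMonomial x e.1
  have h0 : IndepOn (⨅ i, k i ⊔ pField p k₀ K) v Finset.univ := by
    rw [h]
    intro c hc hsum a _
    have := Fintype.linearIndependent_iff.1 hx
      (fun e => ⟨c e, (mem_pPower_self p _).2 (hc e (Finset.mem_univ e))⟩) hsum a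
    exact congrArg Subtype.val this
  obtain ⟨i, hi⟩ := exists_indepOn (fun i => k i ⊔ pField p k₀ K)
    (fun a b hab => sup_le_sup_right (hk hab) _) v Finset.univ h0
  have hxi : EGA41.IsPIndependent p (k i) x :=
    Fintype.linearIndependent_iff.2 fun g hg a => Subtype.ext
      (hi (fun e => (g e : K)) (fun e _ => (mem_pPower_field p (k i) _).1 (g e).2) hg a (Finset.mem_univ a))
  exact ⟨i, fun ω hω h1 => eq_zero_of_indep x (PBasisLib.linearIndependent_D p hxi) (hS hω) h1⟩

theorem exists_cofinite (V : Submodule L (L ⊗[K] Ω[K⁄k₀])) (hV : V.FG) :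
    ∃ F : IntermediateField k₀ K, (∀ y : K, y ^ p ∈ F) ∧ Module.Finite F K ∧
      ∀ ω ∈ V, ((map k₀ F K K).restrictScalars K).baseChange L ω = 0 → ω = 0 := by
  classical
  obtain ⟨T, -, -, hT⟩ := PBasisLib.exists_pBasis_between p (A := k₀) Set.univ ∅ (Set.subset_univ _)
    (PBasisLib.isPGenerating_univ (A := k₀) (K := K) p) (PBasisLib.setIndep_empty (A := k₀) (K := K) p)
  obtain ⟨S, hS⟩ := exists_finite_support p hT V hV
  let F : IntermediateField k₀ K :=
    IntermediateField.adjoin k₀ ((Set.range fun y : K => y ^ p) ∪ Subtype.val '' {t : T | t ∉ S})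
  have hpow : ∀ y : K, y ^ p ∈ F := fun y => IntermediateField.subset_adjoin _ _ (Or.inl ⟨y, rfl⟩)
  refine ⟨F, hpow, ?_, fun ω hω h1 => eq_zero_of_indep (fun s : S => ((s : T) : K)) ?_ (hS hω) h1⟩
  · have hint : ∀ y : K, IsIntegral F y := fun y =>
      IsIntegral.of_pow (n := p) (Fact.out : p.Prime).pos (isIntegral_algebraMap (x := (⟨y ^ p, hpow y⟩ : F)))
    have htop : Algebra.adjoin F ((fun t : T => (t : K)) '' (S : Set T)) = ⊤ := by
      refine eq_top_iff.2 fun y hyt => ?_
      clear hyt
      have hy : y ∈ Algebra.adjoin (EGA41.pPowerSubalgebra p k₀ K) (Set.range (Subtype.val : T → K)) := by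
        rw [(PBasisLib.isPGenerating_iff p _).1 hT.2]; trivial
      induction hy using Algebra.adjoin_induction with
      | mem z hz =>
        obtain ⟨t, rfl⟩ := hz
        by_cases ht : t ∈ S
        · exact Algebra.subset_adjoin ⟨t, ht, rfl⟩
        · exact Subalgebra.algebraMap_mem _ (⟨(t : K), IntermediateField.subset_adjoin _ _ (Or.inr ⟨t, ht, rfl⟩)⟩ : F)
      | algebraMap c =>
        have hle : pField p k₀ K ≤ F := IntermediateField.adjoin.mono _ _ _ Set.subset_union_left
        exact Subalgebra.algebraMap_mem _ (⟨(c : K), hle ((mem_pPower_self p _).1 c.2)⟩ : F)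
      | add _ _ _ _ ha hb => exact add_mem ha hb
      | mul _ _ _ _ ha hb => exact mul_mem ha hb
    have hfg := fg_adjoin_of_finite ((Finset.finite_toSet S).image fun t : T => (t : K)) (fun y _ => hint y)
    rw [htop] at hfg
    exact ⟨by simpa using hfg⟩
  · rw [Fintype.linearIndependent_iff]
    intro g hg t
    obtain ⟨D', hD'⟩ := PBasisLib.exists_derivation_base (A := k₀) (L := K) p hT
      (fun u => if u = (t : T) then (1 : K) else 0)
    have hF : ∀ c ∈ F, D' c = 0 := fun c hc => by
      induction hc using IntermediateField.adjoin_induction with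
      | mem z hz =>
        rcases hz with ⟨y, rfl⟩ | ⟨u, hu, rfl⟩
        · exact PBasisLib.derivation_pow p D' y
        · rw [hD', if_neg]
          exact fun e => hu (e ▸ t.2)
      | algebraMap a => exact D'.map_algebraMap a
      | add _ _ _ _ ha hb => simp [ha, hb]
      | inv _ _ ha => simp [Derivation.leibniz_inv, ha]
      | mul _ _ _ _ ha hb => simp [Derivation.leibniz, ha, hb]
    let Dl : K →ₗ[F] K :=
      { toFun := fun y => D' y
        map_add' := fun a b => map_add D' a b
        map_smul' := fun a b => by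
          rw [RingHom.id_apply, IntermediateField.smul_def, smul_eq_mul, Derivation.leibniz, hF a a.2,
            smul_zero, add_zero]; rfl }
    let DF : Derivation F K K := Derivation.mk' Dl fun a b => D'.leibniz a b
    have := congrArg DF.liftKaehlerDifferential hg
    simp only [map_sum, map_smul, map_zero, Derivation.liftKaehlerDifferential_comp_D] at this
    simpa [DF, Dl, hD', Subtype.coe_inj] using this

omit [Fact p.Prime] [CharP K p] [IsDirected ι fun x1 x2 => x1 ≤ x2] [Nonempty ι] in
theorem map_baseChange_D (F : IntermediateField k₀ K) (c : K) (hc : c ∈ F) (l : L) :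
    ((map k₀ F K K).restrictScalars K).baseChange L (l ⊗ₜ[K] D k₀ K c) = 0 := by
  rw [LinearMap.baseChange_tmul, LinearMap.restrictScalars_apply, map_D, Algebra.algebraMap_self, RingHom.id_apply,
    show c = algebraMap F K ⟨c, hc⟩ from rfl, Derivation.map_algebraMap, TensorProduct.tmul_zero]

variable [Algebra k₀ L] [IsScalarTower k₀ K L] [CharP L p]

theorem iInf_map_eq (hk : Antitone k) (h : (⨅ i, k i ⊔ pField p k₀ K) = pField p k₀ K)
    [Module.Finite L (EGA41.imperfection k₀ K L)] :
    (⨅ i, (k i).map (IsScalarTower.toAlgHom k₀ K L) ⊔ pField p k₀ L) = pField p k₀ L := by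
  classical
  refine le_antisymm (fun x hx => ?_) (le_iInf fun i => le_sup_right)
  rw [← SetLike.mem_coe, IntermediateField.coe_iInf, Set.mem_iInter] at hx
  let U : ι → Submodule L (L ⊗[K] Ω[K⁄k₀]) := fun i =>
    Submodule.span L ((fun c => (1 : L) ⊗ₜ[K] D k₀ K c) '' (k i : Set K))
  have hU : ∀ i, U i ≤ LinearMap.ker (((map k₀ (k i) K K).restrictScalars K).baseChange L) := fun i => by
    rw [Submodule.span_le]; rintro _ ⟨c, hc, rfl⟩; exact map_baseChange_D (k i) c hc 1
  have hUanti : ∀ {a b}, a ≤ b → U b ≤ U a := fun hab =>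
    Submodule.span_mono (Set.image_mono (hk hab))
  have hmem : ∀ i, ∃ z ∈ U i, mapBaseChange k₀ K L z = D k₀ L x := fun i => by
    let W := (U i).map (mapBaseChange k₀ K L)
    let N : IntermediateField k₀ L :=
      { carrier := {y | D k₀ L y ∈ W}
        mul_mem' := fun {a b} ha hb => by
          show D k₀ L (a * b) ∈ W
          rw [Derivation.leibniz]; exact add_mem (W.smul_mem _ hb) (W.smul_mem _ ha)
        one_mem' := by show D k₀ L 1 ∈ W; simp
        add_mem' := fun {a b} ha hb => by show D k₀ L (a + b) ∈ W; rw [map_add]; exact add_mem ha hb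
        zero_mem' := by show D k₀ L 0 ∈ W; simp
        algebraMap_mem' := fun a => by show D k₀ L (algebraMap k₀ L a) ∈ W; simp
        inv_mem' := fun a ha => by
          show D k₀ L a⁻¹ ∈ W
          rw [Derivation.leibniz_inv]; exact W.smul_mem _ ha }
    have hle : (k i).map (IsScalarTower.toAlgHom k₀ K L) ⊔ pField p k₀ L ≤ N := by
      refine sup_le ?_ (IntermediateField.adjoin_le_iff.2 ?_)
      · rintro _ ⟨c, hc, rfl⟩
        refine ⟨(1 : L) ⊗ₜ[K] D k₀ K c, Submodule.subset_span ⟨c, hc, rfl⟩, ?_⟩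
        rw [mapBaseChange_tmul, one_smul, map_D]; rfl
      · rintro _ ⟨y, rfl⟩
        show D k₀ L (y ^ p) ∈ W
        rw [PBasisLib.derivation_pow p]; exact zero_mem _
    exact hle (hx i)
  choose z hz hzx using hmem
  obtain ⟨i₀, hi₀⟩ := exists_admissible p k hk h _
    (Module.Finite.iff_fg.1 ‹Module.Finite L (EGA41.imperfection k₀ K L)›)
  have hall : ∀ i, z i₀ ∈ U i := fun i => by
    obtain ⟨j, hj, hj'⟩ := exists_ge_ge i i₀
    have : z j - z i₀ = 0 := hi₀ _ (by
      show mapBaseChange k₀ K L (z j - z i₀) = 0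
      rw [map_sub, hzx, hzx, sub_self]) (hU i₀ (sub_mem (hUanti hj' (hz j)) (hz i₀)))
    rw [← sub_eq_zero.1 this]
    exact hUanti hj (hz j)
  obtain ⟨i₁, hi₁⟩ := exists_admissible p k hk h (Submodule.span L {z i₀}) (Submodule.fg_span_singleton _)
  have hz0 : z i₀ = 0 := hi₁ _ (Submodule.mem_span_singleton_self _) (hU i₁ (hall i₁))
  have hd : D k₀ L x = 0 := by rw [← hzx i₀, hz0, map_zero]
  have hxa := PBasisLib.mem_adjoin_of_D_mem_span p (A := k₀) (∅ : Set L) (a := x) (by rw [hd]; exact zero_mem _)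
  rw [Algebra.adjoin_empty, Algebra.mem_bot] at hxa
  obtain ⟨c, rfl⟩ := hxa
  exact (mem_pPower_self p _).1 c.2

end Base

section Converse

theorem exists_derivation_root {L : Type u} [Field L] [Algebra K L] [Algebra k₀ L] [IsScalarTower k₀ K L]
    [CharP L p] {Q : Type u} [AddCommGroup Q] [Module L Q] [Module k₀ Q] [IsScalarTower k₀ L Q]
    (x : K) (y : L) (hy : y ^ p = algebraMap K L x) (hgen : Algebra.adjoin K {y} = ⊤)
    (hlift : ∀ (E : Type u) [CommRing E] (φ : K →+* E) (z : E), z ^ p = φ x →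
      ∃ v : L →+* E, (∀ c, v (algebraMap K L c) = φ c) ∧ v y = z)
    (q : K →+ Q) (hqmul : ∀ a b : K, q (a * b) = algebraMap K L a • q b + algebraMap K L b • q a)
    (hq0 : ∀ c : k₀, q (algebraMap k₀ K c) = 0) (hqx : q x = 0) :
    ∃ DL : Derivation k₀ L Q, ∀ c, DL (algebraMap K L c) = q c := by
  classical
  letI : Module Lᵐᵒᵖ Q := Module.compHom Q ((RingHom.id L).fromOpposite mul_comm)
  haveI : IsCentralScalar L Q := ⟨fun _ _ => rfl⟩
  have hq1 : q 1 = 0 := by simpa using hq0 1
  let φ : K →+* TrivSqZeroExt L Q :=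
    { toFun := fun c => TrivSqZeroExt.inl (algebraMap K L c) + TrivSqZeroExt.inr (q c)
      map_one' := by ext <;> simp [hq1]
      map_mul' := fun c d => by
        ext
        · simp
        · simp [hqmul]
      map_zero' := by ext <;> simp
      map_add' := fun c d => by ext <;> simp }
  obtain ⟨v, hv, hvy⟩ := hlift (TrivSqZeroExt L Q) φ (TrivSqZeroExt.inl y) (by
    rw [TrivSqZeroExt.inl_pow, hy]
    ext <;> simp [φ, hqx])
  have hfst : ∀ l, (v l).fst = l := fun l => by
    have hl : l ∈ Algebra.adjoin K {y} := hgen ▸ trivial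
    induction hl using Algebra.adjoin_induction with
    | mem z hz => rw [Set.mem_singleton_iff] at hz; subst hz; simp [hvy]
    | algebraMap c => simp [hv, φ]
    | add _ _ _ _ ha hb => rw [map_add, TrivSqZeroExt.fst_add, ha, hb]
    | mul _ _ _ _ ha hb => rw [map_mul, TrivSqZeroExt.fst_mul, ha, hb]
  let D₀ : L →ₗ[k₀] Q :=
    { toFun := fun l => (v l).snd
      map_add' := fun a b => by simp
      map_smul' := fun c l => by
        have hc : v (algebraMap k₀ L c) = TrivSqZeroExt.inl (algebraMap k₀ L c) := by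
          rw [IsScalarTower.algebraMap_apply k₀ K L, hv]
          ext <;> simp [φ, hq0]
        rw [RingHom.id_apply, Algebra.smul_def, map_mul, TrivSqZeroExt.snd_mul, hc, TrivSqZeroExt.fst_inl,
          TrivSqZeroExt.snd_inl, smul_zero, add_zero, algebraMap_smul] }
  refine ⟨Derivation.mk' D₀ fun a b => ?_, fun c => ?_⟩
  · show (v (a * b)).snd = a • (v b).snd + b • (v a).snd
    rw [map_mul, TrivSqZeroExt.snd_mul, hfst, hfst, op_smul_eq_smul]
  · show (v (algebraMap K L c)).snd = q c
    rw [hv]; simp [φ]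

theorem imperfection_le_span {L : Type u} [Field L] [Algebra K L] [Algebra k₀ L] [IsScalarTower k₀ K L]
    [CharP L p] (x : K) (y : L) (hy : y ^ p = algebraMap K L x) (hgen : Algebra.adjoin K {y} = ⊤)
    (hlift : ∀ (E : Type u) [CommRing E] (φ : K →+* E) (z : E), z ^ p = φ x →
      ∃ v : L →+* E, (∀ c, v (algebraMap K L c) = φ c) ∧ v y = z) :
    EGA41.imperfection k₀ K L ≤ Submodule.span L {(1 : L) ⊗ₜ[K] D k₀ K x} := by
  classical
  let W : Submodule L (L ⊗[K] Ω[K⁄k₀]) := Submodule.span L {(1 : L) ⊗ₜ[K] D k₀ K x}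
  let q : K →+ (L ⊗[K] Ω[K⁄k₀]) ⧸ W :=
    { toFun := fun c => W.mkQ ((1 : L) ⊗ₜ[K] D k₀ K c)
      map_zero' := by rw [map_zero, TensorProduct.tmul_zero, map_zero]
      map_add' := fun a b => by rw [map_add, TensorProduct.tmul_add, map_add] }
  obtain ⟨DL, hDL⟩ := exists_derivation_root p x y hy hgen hlift q (fun a b => by
      show W.mkQ ((1 : L) ⊗ₜ[K] D k₀ K (a * b)) = algebraMap K L a • W.mkQ _ + algebraMap K L b • W.mkQ _
      rw [Derivation.leibniz, TensorProduct.tmul_add, TensorProduct.tmul_smul, TensorProduct.tmul_smul,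
        map_add, ← algebraMap_smul L a, ← algebraMap_smul L b, map_smul, map_smul])
    (fun c => by
      show W.mkQ _ = 0
      rw [Derivation.map_algebraMap, TensorProduct.tmul_zero, map_zero])
    ((Submodule.Quotient.mk_eq_zero _).2 (Submodule.mem_span_singleton_self _))
  have key : ∀ z, DL.liftKaehlerDifferential (mapBaseChange k₀ K L z) = W.mkQ z := fun z => by
    induction z using TensorProduct.induction_on with
    | zero => simp
    | add a b ha hb => rw [map_add, map_add, ha, hb, map_add]
    | tmul l w =>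
      have hw : w ∈ Submodule.span K (Set.range (D k₀ K)) := by
        rw [span_range_derivation]; trivial
      induction hw using Submodule.span_induction with
      | mem _ h =>
        obtain ⟨c, rfl⟩ := h
        rw [mapBaseChange_tmul, map_smul, map_D, Derivation.liftKaehlerDifferential_comp_D, hDL]
        show l • W.mkQ _ = _
        rw [← map_smul, TensorProduct.smul_tmul', smul_eq_mul, mul_one]
      | zero => simp
      | add a b _ _ ha hb => rw [TensorProduct.tmul_add, map_add, map_add, ha, hb, map_add]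
      | smul c a _ ha =>
        rw [TensorProduct.tmul_smul, ← algebraMap_smul L, map_smul, map_smul, ha, map_smul]
  intro z hz
  have h := key z
  rw [show mapBaseChange k₀ K L z = 0 from hz, map_zero] at h
  exact (Submodule.Quotient.mk_eq_zero _).1 h.symm

theorem finite_and_mem_imperfection (x : K) (hirr : Irreducible (Polynomial.X ^ p - Polynomial.C x)) :
    letI : Fact (Irreducible (Polynomial.X ^ p - Polynomial.C x)) := ⟨hirr⟩
    Module.Finite (AdjoinRoot (Polynomial.X ^ p - Polynomial.C x))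
        (EGA41.imperfection k₀ K (AdjoinRoot (Polynomial.X ^ p - Polynomial.C x))) ∧
      (1 : AdjoinRoot (Polynomial.X ^ p - Polynomial.C x)) ⊗ₜ[K] D k₀ K x ∈
        EGA41.imperfection k₀ K (AdjoinRoot (Polynomial.X ^ p - Polynomial.C x)) := by
  classical
  letI : Fact (Irreducible (Polynomial.X ^ p - Polynomial.C x)) := ⟨hirr⟩
  haveI : CharP (AdjoinRoot (Polynomial.X ^ p - Polynomial.C x)) p :=
    charP_of_injective_algebraMap (algebraMap K _).injective p
  have hy : (AdjoinRoot.root (Polynomial.X ^ p - Polynomial.C x)) ^ p = algebraMap K _ x := by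
    have h := AdjoinRoot.eval₂_root (Polynomial.X ^ p - Polynomial.C x)
    rw [Polynomial.eval₂_sub, Polynomial.eval₂_X_pow, Polynomial.eval₂_C, sub_eq_zero] at h
    exact h
  have hle := imperfection_le_span (k₀ := k₀) p x _ hy AdjoinRoot.adjoinRoot_eq_top
    (fun E _ φ z hz => ⟨AdjoinRoot.lift φ z (by
      rw [Polynomial.eval₂_sub, Polynomial.eval₂_X_pow, Polynomial.eval₂_C, hz, sub_self]),
      fun c => AdjoinRoot.lift_of _, AdjoinRoot.lift_root _⟩)
  refine ⟨Module.Finite.iff_fg.2 ?_, ?_⟩
  · haveI := isNoetherian_span_of_finite (AdjoinRoot (Polynomial.X ^ p - Polynomial.C x))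
      (Set.finite_singleton ((1 : AdjoinRoot (Polynomial.X ^ p - Polynomial.C x)) ⊗ₜ[K] D k₀ K x))
    exact isNoetherian_submodule.1 this _ hle
  · show mapBaseChange k₀ K _ ((1 : AdjoinRoot (Polynomial.X ^ p - Polynomial.C x)) ⊗ₜ[K] D k₀ K x) = 0
    rw [mapBaseChange_tmul, one_smul, map_D, ← hy, PBasisLib.derivation_pow p]

theorem iInf_eq_of_admissible {ι : Type u} [Preorder ι] (k : ι → IntermediateField k₀ K)
    (hadm : ∀ (L : Type u) [Field L] [Algebra K L] [Algebra k₀ L] [IsScalarTower k₀ K L],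
        Module.Finite L (EGA41.imperfection k₀ K L) →
          ∃ i, ∀ ω ∈ EGA41.imperfection k₀ K L,
            ((map k₀ (k i) K K).restrictScalars K).baseChange L ω = 0 → ω = 0) :
    (⨅ i, k i ⊔ pField p k₀ K) = pField p k₀ K := by
  refine le_antisymm (fun x hx => ?_) (le_iInf fun i => le_sup_right)
  by_contra hne
  have hirr : Irreducible (Polynomial.X ^ p - Polynomial.C x) :=
    X_pow_sub_C_irreducible_of_prime Fact.out fun b hb =>
      hne (hb ▸ IntermediateField.subset_adjoin _ _ ⟨b, rfl⟩)
  haveI : Fact (Irreducible (Polynomial.X ^ p - Polynomial.C x)) := ⟨hirr⟩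
  obtain ⟨hfin, hmem⟩ := finite_and_mem_imperfection (k₀ := k₀) p x hirr
  obtain ⟨i, hi⟩ := hadm _ hfin
  rw [← SetLike.mem_coe, IntermediateField.coe_iInf, Set.mem_iInter] at hx
  have hDi : D (k i) K x = 0 :=
    PBasisLib.derivation_pPow p (D (k i) K) ⟨x, (mem_pPower_field p (k i) x).2 (hx i)⟩
  have h1 := hi _ hmem (by
    rw [LinearMap.baseChange_tmul, LinearMap.restrictScalars_apply, map_D, Algebra.algebraMap_self,
      RingHom.id_apply, hDi, TensorProduct.tmul_zero])
  have hd : D k₀ K x = 0 := by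
    refine Module.Flat.rTensor_preserves_injective_linearMap (M := Ω[K⁄k₀])
      (Algebra.linearMap K (AdjoinRoot (Polynomial.X ^ p - Polynomial.C x))) (algebraMap K _).injective
      |> fun hinj => ?_
    have h2 : (Algebra.linearMap K (AdjoinRoot (Polynomial.X ^ p - Polynomial.C x))).rTensor (Ω[K⁄k₀])
        ((1 : K) ⊗ₜ[K] D k₀ K x) = 0 := by
      rw [LinearMap.rTensor_tmul, Algebra.linearMap_apply, map_one]; exact h1
    have h3 := congrArg (TensorProduct.lid K _) (hinj (h2.trans (map_zero _).symm))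
    simpa using h3
  have hxa := PBasisLib.mem_adjoin_of_D_mem_span p (A := k₀) (∅ : Set K) (a := x) (by rw [hd]; exact zero_mem _)
  rw [Algebra.adjoin_empty, Algebra.mem_bot] at hxa
  obtain ⟨c, rfl⟩ := hxa
  exact hne ((mem_pPower_self p _).1 c.2)

end Converse

end Groth.Agent.AdmissLib
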